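import Groth.Agent.Lib.Lead.RP.LemmaA
import Groth.Agent.Lib.Lead.SC.ClosedEmb

/-! # Higher direct images of a module pushed forward along a closed immersion:
`Rᵖ f_* (i_* G) ≅ Rᵖ (i ≫ f)_* G`. -/

set_option autoImplicit false
universe u
open CategoryTheory Limits Opposite Abelian AlgebraicGeometry TopologicalSpace

namespace Groth.Agent.LD.PS

open Groth.Agent.LD Groth.Agent.LD.RP Groth.Agent.H2.RDer Groth.Agent.H2.GSSGen

attribute [local instance] HasDerivedCategory.standard

theorem enoughInjectives (X : Scheme.{u}) : EnoughInjectives X.Modules := by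
  haveI := Groth.Agent.H1.sheafOfModules_isGrothendieckAbelian
    (Opens.grothendieckTopology X) X.ringCatSheaf
  exact inferInstanceAs (EnoughInjectives (SheafOfModules.{u} X.ringCatSheaf))

attribute [local instance] enoughInjectives

variable {Z X S : Scheme.{u}} (i : Z ⟶ X) [IsClosedImmersion i] (f : X ⟶ S)

/-- the direct image along a closed immersion preserves epimorphisms of modules. -/
theorem preservesEpi_pushforward_closedImmersion :
    (Scheme.Modules.pushforward i).PreservesEpimorphisms := by
  refine ⟨fun {M N} φ hφ => ?_⟩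
  haveI : (τ X).Faithful := inferInstanceAs (SheafOfModules.toSheaf.{u} X.ringCatSheaf).Faithful
  apply (τ X).epi_of_epi_map
  haveI := SC.preservesEpi_push_of_isClosedEmbedding i.base i.isClosedEmbedding
  haveI : Epi ((τ Z).map φ) := inferInstance
  have h : Epi ((Coh.pushAb i).map ((τ Z).map φ)) :=
    (SC.pushAb i.base).map_epi ((τ Z).map φ)
  exact h

omit [IsClosedImmersion i] in
/-- direct images of injective modules along any morphism are acyclic for direct images. -/
theorem acyc_pushforward_of_injective [HasInjectiveResolutions X.Modules]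
    (J : Z.Modules) [Injective J] :
    acyc (Scheme.Modules.pushforward f) ((Scheme.Modules.pushforward i).obj J) := by
  intro q hq
  have hJ : CohCx.IsTotallyAcyclic ((τ Z).obj J) :=
    @isTotallyAcyclic_toAb_of_injective _ _ _ Z.sheaf J ‹_›
  have h2 : CohCx.IsTotallyAcyclic ((τ X).obj ((Scheme.Modules.pushforward i).obj J)) :=
    isTotallyAcyclic_pushAb i _ hJ
  exact isZero_Rpush_of_isTotallyAcyclic f _ h2 q hq

/-- **`Rᵖ f_* (i_* G) ≅ Rᵖ (i ≫ f)_* G` for a closed immersion `i`.** -/
theorem nonempty_Rpush_closedImmersion_iso [HasInjectiveResolutions X.Modules]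
    [HasInjectiveResolutions Z.Modules] (G : Z.Modules) (p : ℕ) :
    Nonempty ((Coh.Rpush f p).obj ((Scheme.Modules.pushforward i).obj G) ≅
      (Coh.Rpush (i ≫ f) p).obj G) := by
  let Ψ := Scheme.Modules.pushforward i
  haveI : PreservesFiniteLimits Ψ :=
    ⟨fun _ _ _ => (Scheme.Modules.pullbackPushforwardAdjunction i).rightAdjoint_preservesLimits.preservesLimitsOfShape⟩
  haveI : Ψ.PreservesEpimorphisms := preservesEpi_pushforward_closedImmersion i
  haveI : Ψ.PreservesHomology := Functor.preservesHomology_of_preservesEpis_and_kernels Ψ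
  let I : InjectiveResolution G := injectiveResolution G
  let K : CochainComplex X.Modules ℤ :=
    (Ψ.mapHomologicalComplex (ComplexShape.up ℤ)).obj I.cochainComplex
  haveI : CochainComplex.IsStrictlyGE K 0 := by
    rw [CochainComplex.isStrictlyGE_iff]
    intro j hj
    exact Ψ.map_isZero (I.cochainComplex.isZero_of_isStrictlyGE 0 j hj)
  let ε : (CochainComplex.singleFunctor _ 0).obj (Ψ.obj G) ⟶ K :=
    (HomologicalComplex.singleMapHomologicalComplex Ψ (ComplexShape.up ℤ) 0).inv.app G ≫
      (Ψ.mapHomologicalComplex _).map I.ι'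
  haveI h1 : QuasiIso ((Ψ.mapHomologicalComplex (ComplexShape.up ℤ)).map I.ι') :=
    HomologicalComplex.quasiIso_map_of_preservesHomology _ _
  haveI h0' : QuasiIso
      ((HomologicalComplex.singleMapHomologicalComplex Ψ (ComplexShape.up ℤ) 0).inv.app G) :=
    inferInstance
  haveI : QuasiIso ε := by
    dsimp only [ε]
    exact @quasiIso_comp _ _ _ _ _ _ _ _ _ _ _ _ _ h0' h1
  obtain ⟨e₂⟩ := nonempty_rightDerived_iso_homology_of_acyc (Scheme.Modules.pushforward f) K
    (fun n => acyc_pushforward_of_injective i f _) (Ψ.obj G) ε p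
  let e₁ := rightDerivedIsoHomology' (Scheme.Modules.pushforward (i ≫ f)) I p
  let e₄ : ((Scheme.Modules.pushforward f).mapHomologicalComplex (ComplexShape.up ℤ)).obj K ≅
      ((Scheme.Modules.pushforward (i ≫ f)).mapHomologicalComplex (ComplexShape.up ℤ)).obj
        I.cochainComplex :=
    HomologicalComplex.Hom.isoOfComponents
      (fun n => (Scheme.Modules.pushforwardComp i f).app (I.cochainComplex.X n)) (by
      intro a b _
      exact ((Scheme.Modules.pushforwardComp i f).hom.naturality (I.cochainComplex.d a b)).symm)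
  exact ⟨e₂ ≪≫ (HomologicalComplex.homologyFunctor _ _ (p : ℤ)).mapIso e₄ ≪≫ e₁.symm⟩

end Groth.Agent.LD.PS
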