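import Groth.Agent.Lib.Lead.PS.Basic
import Groth.Agent.Lib.Lead.PS.ClosedPush
import Groth.Agent.Lib.Lead.QC.AnnIdeal
import Groth.Agent.Lib.Lead.QC.ClosedUnit
import Groth.Agent.Lib.Lead.QC.Pullback
import Groth.Agent.Lib.Lead.QC.Disjoint
import Groth.Agent.Lib.Lead.QC.StalkNbhd
import Groth.Agent.Lib.Lead.RS.Coherent
import Groth.Agent.Lib.Lead.QC.SerreSupp

/-! # Modules with proper support are direct images from proper closed subschemes;
coherence of their higher direct images. -/

set_option autoImplicit false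
universe u
open CategoryTheory Limits AlgebraicGeometry

namespace Groth.Agent.LD.PS

open Groth.Agent.LD Groth.Agent.H1

variable {X S : Scheme.{u}}

/-- the stalk of a direct image vanishes at points having a neighbourhood with empty preimage. -/
lemma subsingleton_stalk_pushforward {Z : Scheme.{u}} (i : Z ⟶ X) (G : Z.Modules) (x : X)
    (U : X.Opens) (hxU : x ∈ U) (hU : i ⁻¹ᵁ U = ⊥) :
    Subsingleton (((Scheme.Modules.pushforward i).obj G).presheaf.stalk x) := by
  apply QC.subsingleton_of_forall_eq_zero
  intro c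
  obtain ⟨V, hxV, t, rfl⟩ := TopCat.Presheaf.germ_exist
    ((Scheme.Modules.pushforward i).obj G).presheaf c
  have h3 := TopCat.Presheaf.germ_res_apply ((Scheme.Modules.pushforward i).obj G).presheaf
    (homOfLE (inf_le_left : V ⊓ U ≤ V)) x ⟨hxV, hxU⟩ t
  rw [← h3]
  have hbot : i ⁻¹ᵁ (V ⊓ U) = ⊥ := by
    rw [eq_bot_iff, ← hU]
    exact i.preimage_mono inf_le_right
  have h4 : ((Scheme.Modules.pushforward i).obj G).presheaf.map
      (homOfLE (inf_le_left : V ⊓ U ≤ V)).op t = 0 :=
    QC.eq_of_eq_bot G (W := i ⁻¹ᵁ (V ⊓ U)) hbot _ _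
  rw [h4]
  exact map_zero _

/-- the support of a direct image along a closed immersion lies in the image. -/
theorem support_pushforward_subset {Z : Scheme.{u}} (i : Z ⟶ X) [IsClosedImmersion i]
    (G : Z.Modules) :
    CohB1.support ((Scheme.Modules.pushforward i).obj G) ⊆ Set.range i := by
  intro x hx
  by_contra hn
  apply hx
  have hc : IsClosed (Set.range i) := i.isClosedEmbedding.isClosed_range
  refine subsingleton_stalk_pushforward i G x ⟨(Set.range i)ᶜ, hc.isOpen_compl⟩ hn ?_
  ext z
  constructor
  · intro hz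
    exact (hz ⟨z, rfl⟩).elim
  · intro hz
    exact hz.elim

/-- a quasi-coherent module of finite type with proper support is a direct image from a closed
subscheme proper over the base. -/
theorem exists_closedImmersion_unit_iso (f : X ⟶ S) [LocallyOfFiniteType f]
    (F : X.Modules) [F.IsQuasicoherent] (hft : F.IsFiniteType)
    (h : ClSub.IsProperOver f (CohB1.support F)) :
    ∃ (Z : Scheme.{u}) (i : Z ⟶ X), IsClosedImmersion i ∧ IsProper (i ≫ f) ∧
      IsIso ((Scheme.Modules.pullbackPushforwardAdjunction i).unit.app F) := by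
  let I := QC.annIdeal F hft
  have hcl : IsClosed (CohB1.support F) := QC.isClosed_support_of_isFiniteType F hft
  have hr : Set.range I.subschemeι = CohB1.support F := by
    rw [I.range_subschemeι]
    exact QC.support_annIdeal F hft
  have hp : IsProper (I.subschemeι ≫ f) :=
    (isProperOver_iff_forall f _ hcl).mp h _ I.subschemeι inferInstance hr
  have hiso : IsIso ((Scheme.Modules.pullbackPushforwardAdjunction I.subschemeι).unit.app F) := by
    rw [QC.isIso_unit_closedImmersion_iff]
    intro U a ha s
    rw [Scheme.IdealSheafData.ker_subschemeι] at ha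
    exact Module.mem_annihilator.mp ha s
  exact ⟨_, I.subschemeι, inferInstance, hp, hiso⟩

/-- **S0792** -/
theorem isProperOver_support_iff (f : X ⟶ S) [LocallyOfFiniteType f]
    (F : X.Modules) (hq : Coh.IsQCoh F) (hft : CohB1.IsFT F) :
    ClSub.IsProperOver f (CohB1.support F) ↔
      ∃ (Z : Scheme.{u}) (i : Z ⟶ X), IsClosedImmersion i ∧ IsProper (i ≫ f) ∧
        ∃ G : Z.Modules, Coh.IsQCoh G ∧ CohB1.IsFT G ∧
          Nonempty ((Scheme.Modules.pushforward i).obj G ≅ F) := by
  haveI : F.IsQuasicoherent := hq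
  constructor
  · intro h
    let I := QC.annIdeal F hft
    have hcl : IsClosed (CohB1.support F) := QC.isClosed_support_of_isFiniteType F hft
    have hr : Set.range I.subschemeι = CohB1.support F := by
      rw [I.range_subschemeι]
      exact QC.support_annIdeal F hft
    have hp : IsProper (I.subschemeι ≫ f) :=
      (isProperOver_iff_forall f _ hcl).mp h _ I.subschemeι inferInstance hr
    have hiso : IsIso ((Scheme.Modules.pullbackPushforwardAdjunction I.subschemeι).unit.app F) := by
      rw [QC.isIso_unit_closedImmersion_iff]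
      intro U a ha s
      rw [Scheme.IdealSheafData.ker_subschemeι] at ha
      exact Module.mem_annihilator.mp ha s
    exact ⟨_, I.subschemeι, inferInstance, hp, (Scheme.Modules.pullback I.subschemeι).obj F,
      QC.qc_pullback _ F, QC.isFiniteType_pullback _ F hft,
      ⟨(asIso ((Scheme.Modules.pullbackPushforwardAdjunction I.subschemeι).unit.app F)).symm⟩⟩
  · rintro ⟨Z, i, hi, hp, G, hG, hGft, ⟨e⟩⟩
    have h1 : ClSub.IsProperOver f (Set.range i) := (isProperOver_range_iff f i).mpr hp
    refine isProperOver_of_subset f h1 (QC.isClosed_support_of_isFiniteType F hft) ?_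
    rw [← QC.support_eq_of_iso e]
    exact support_pushforward_subset i G

/-- **S0795** -/
theorem isCoh_Rpush_of_properSupport (f : X ⟶ S) [LocallyOfFiniteType f] [IsLocallyNoetherian S]
    [HasInjectiveResolutions X.Modules] (hfin : RS.FinCoh.{u})
    (F : X.Modules) (hF : Coh.IsCoh F) (hs : ClSub.IsProperOver f (CohB1.support F)) (p : ℕ) :
    Coh.IsCoh ((Coh.Rpush f p).obj F) := by
  obtain ⟨Z, i, hi, hp, G, hG, hGft, ⟨e⟩⟩ := (isProperOver_support_iff f F hF.1 hF.2).mp hs
  haveI := QCQS.hasInjRes Z
  obtain ⟨e2⟩ := nonempty_Rpush_closedImmersion_iso i f G p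
  have h1 : Coh.IsCoh ((Coh.Rpush (i ≫ f) p).obj G) := RS.isCoh_Rpush (i ≫ f) hfin G ⟨hG, hGft⟩ p
  exact QC.isCoh_of_iso (e2.symm ≪≫ (Coh.Rpush f p).mapIso e) h1

end Groth.Agent.LD.PS
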