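import Groth.Agent.Lib.Lead.PS.ModPow
import Groth.Agent.Lib.Lead.RS.StalkBC
import Groth.Agent.Lib.Lead.QC.ClosedUnit
import Groth.Agent.Lib.Lead.SC.Affine
import Groth.Agent.Lib.Lead.SC.SerreCrit

/-! # Transport of the inverse system `H^p(X, F / I^{n+1} F)` along a closed immersion `i : Z ⟶ X`
for a module `F` which is a direct image from `Z`. -/

set_option autoImplicit false
universe u
open CategoryTheory Limits AlgebraicGeometry

namespace Groth.Agent.LD.PS

open Groth.Agent.LD

variable {A : Type u} [CommRing A] {X Z : Scheme.{u}} [X.Over (Spec (CommRingCat.of A))]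
  [Z.Over (Spec (CommRingCat.of A))] (i : Z ⟶ X) [i.IsOver (Spec (CommRingCat.of A))]

section Surj

/-- an epimorphism of modules with quasi-coherent kernel is surjective on sections over affine
opens. -/
theorem app_surjective_of_epi {F Q : X.Modules} (π : F ⟶ Q) [Epi π]
    (hK : (kernel π).IsQuasicoherent) {U : X.Opens} (hU : IsAffineOpen U) :
    Function.Surjective (π.app U) := by
  let S : ShortComplex X.Modules := ShortComplex.mk (kernel.ι π) π (kernel.condition π)
  have hS : S.ShortExact :=
    { exact := ShortComplex.exact_of_f_is_kernel _ (kernelIsKernel π)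
      mono_f := inferInstanceAs (Mono (kernel.ι π))
      epi_g := inferInstanceAs (Epi π) }
  haveI := hK
  exact SC.surjective_app_of_subsingleton_ext1 (SC.shortExact_toSheaf hS) U
    (SC.subsingleton_ext_of_isAffineOpen (kernel π) 0 U hU)

end Surj

section Unit

variable [IsClosedImmersion i]

/-- if the unit `F → i_* i^* F` is an isomorphism, so is the unit of any quasi-coherent quotient
of `F` with quasi-coherent kernel. -/
theorem isIso_unit_of_epi {F Q : X.Modules} (π : F ⟶ Q) [Epi π] [F.IsQuasicoherent]
    [Q.IsQuasicoherent]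
    (hF : IsIso ((Scheme.Modules.pullbackPushforwardAdjunction i).unit.app F)) :
    IsIso ((Scheme.Modules.pullbackPushforwardAdjunction i).unit.app Q) := by
  rw [QC.isIso_unit_closedImmersion_iff] at hF ⊢
  intro U a ha s
  obtain ⟨t, rfl⟩ := app_surjective_of_epi π (QC.qc_kernel π inferInstance inferInstance) U.2 s
  have h1 : a • π.app U.1 t = π.app U.1 (a • t) := (Scheme.Modules.Hom.app_smul π a t).symm
  rw [h1, hF U a ha t]
  exact map_zero _

end Unit

section ModPow

variable (I : Ideal A) (M : X.Modules)

/-- `i^*(M / I^n M) ≅ (i^*M) / I^n (i^*M)`. -/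
noncomputable def mpIso (n : ℕ) : (Scheme.Modules.pullback i).obj (Formal.modPow I n M) ≅
    Formal.modPow I n ((Scheme.Modules.pullback i).obj M) := quoIso i (I ^ n) M

lemma map_modPowπ_mpIso (n : ℕ) :
    (Scheme.Modules.pullback i).map (Formal.modPowπ I n M) ≫ (mpIso i I M n).hom =
      Formal.modPowπ I n ((Scheme.Modules.pullback i).obj M) :=
  map_quoπ_quoHom i (I ^ n) M

lemma map_modPowTrans_mpIso (n : ℕ) :
    (Scheme.Modules.pullback i).map (Formal.modPowTrans I n M) ≫ (mpIso i I M n).hom =
      (mpIso i I M (n + 1)).hom ≫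
        Formal.modPowTrans I n ((Scheme.Modules.pullback i).obj M) := by
  haveI : Epi (Formal.modPowπ I (n + 1) M) := by
    change Epi (cokernel.π (Formal.smulFamily (I ^ (n + 1)) M))
    infer_instance
  haveI : Epi ((Scheme.Modules.pullback i).map (Formal.modPowπ I (n + 1) M)) := inferInstance
  rw [← cancel_epi ((Scheme.Modules.pullback i).map (Formal.modPowπ I (n + 1) M)),
    ← Category.assoc, ← Functor.map_comp, Formal.modPowπ_trans, map_modPowπ_mpIso,
    ← Category.assoc, map_modPowπ_mpIso, Formal.modPowπ_trans]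

end ModPow

section Coh

variable [IsClosedImmersion i] (p : ℕ)

variable (A) in
/-- `H^p(X, M) ≃ H^p(Z, i^*M)` for modules `M` with `M ≅ i_* i^* M`. -/
noncomputable def cohE (M : X.Modules)
    [IsIso ((Scheme.Modules.pullbackPushforwardAdjunction i).unit.app M)] :
    Coh.HH X M p ≃ₗ[A] Coh.HH Z ((Scheme.Modules.pullback i).obj M) p :=
  (RS.HHequiv A (asIso ((Scheme.Modules.pullbackPushforwardAdjunction i).unit.app M)) p) ≪≫ₗ
    (CL.HHpushEquiv i A ((Scheme.Modules.pullback i).obj M) p).symm

lemma cohE_map {M M' : X.Modules}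
    [IsIso ((Scheme.Modules.pullbackPushforwardAdjunction i).unit.app M)]
    [IsIso ((Scheme.Modules.pullbackPushforwardAdjunction i).unit.app M')]
    (φ : M ⟶ M') (x : Coh.HH X M p) :
    cohE A i p M' (CL.HHmap A φ p x) =
      CL.HHmap A ((Scheme.Modules.pullback i).map φ) p (cohE A i p M x) := by
  apply (CL.HHpushEquiv i A ((Scheme.Modules.pullback i).obj M') p).injective
  rw [CL.HHpushEquiv_map]
  change (CL.HHpushEquiv i A ((Scheme.Modules.pullback i).obj M') p)
      ((CL.HHpushEquiv i A ((Scheme.Modules.pullback i).obj M') p).symm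
      (CL.HHmap A ((Scheme.Modules.pullbackPushforwardAdjunction i).unit.app M') p
        (CL.HHmap A φ p x))) =
    CL.HHmap A ((Scheme.Modules.pushforward i).map ((Scheme.Modules.pullback i).map φ)) p
      ((CL.HHpushEquiv i A ((Scheme.Modules.pullback i).obj M) p)
        ((CL.HHpushEquiv i A ((Scheme.Modules.pullback i).obj M) p).symm
      (CL.HHmap A ((Scheme.Modules.pullbackPushforwardAdjunction i).unit.app M) p x)))
  rw [LinearEquiv.apply_symm_apply, LinearEquiv.apply_symm_apply]
  have h1 := (Scheme.Modules.pullbackPushforwardAdjunction i).unit.naturality φ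
  have h2 : φ ≫ (Scheme.Modules.pullbackPushforwardAdjunction i).unit.app M' =
      (Scheme.Modules.pullbackPushforwardAdjunction i).unit.app M ≫
        (Scheme.Modules.pushforward i).map ((Scheme.Modules.pullback i).map φ) := h1
  have h3 := congrArg (fun ψ => CL.HHmap A ψ p x) h2
  simp only [CL.HHmap_comp, LinearMap.comp_apply] at h3
  exact h3

end Coh

end Groth.Agent.LD.PS
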