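import Groth.Agent.Lib.Lead.FF.Rees
import Groth.Agent.Lib.Lead.RS.Sections
import Groth.Agent.Lib.Lead.CohLES.PushEquiv
import Groth.Prelude.Def_Formal

/-! # Inverse images commute with `M ↦ M / J M`. -/

set_option autoImplicit false
universe u
open CategoryTheory Limits AlgebraicGeometry

namespace Groth.Agent.LD.PS

open Groth.Agent.LD

variable {A : Type u} [CommRing A] {X Z : Scheme.{u}} [X.Over (Spec (CommRingCat.of A))]
  [Z.Over (Spec (CommRingCat.of A))] (i : Z ⟶ X) [i.IsOver (Spec (CommRingCat.of A))]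

omit [X.Over (Spec (CommRingCat.of A))] [Z.Over (Spec (CommRingCat.of A))]
  [i.IsOver (Spec (CommRingCat.of A))] in
lemma resTop_appTop (a : Coh.Γtop X) (V : X.Opens) :
    Coh.resTop Z (Opposite.op (i ⁻¹ᵁ V)) (i.appTop.hom a) =
      (i.app V).hom (Coh.resTop X (Opposite.op V) a) := by
  have h := i.naturality (homOfLE (le_top : V ≤ ⊤)).op
  exact (ConcreteCategory.congr_hom h a).symm

omit [X.Over (Spec (CommRingCat.of A))] [Z.Over (Spec (CommRingCat.of A))]
  [i.IsOver (Spec (CommRingCat.of A))] in
lemma pushforward_map_smulModΓ (M : Z.Modules) (a : Coh.Γtop X) :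
    (Scheme.Modules.pushforward i).map (Formal.smulModΓ M (i.appTop.hom a)) =
      Formal.smulModΓ ((Scheme.Modules.pushforward i).obj M) a := by
  apply (SC.toAbF X).map_injective
  apply Sheaf.hom_ext
  ext V m
  change @HSMul.hSMul (Z.ringCatSheaf.obj.obj (Opposite.op (i ⁻¹ᵁ V.unop)))
    (M.val.obj (Opposite.op (i ⁻¹ᵁ V.unop))) (M.val.obj (Opposite.op (i ⁻¹ᵁ V.unop))) _
    (Coh.resTop Z (Opposite.op (i ⁻¹ᵁ V.unop)) (i.appTop.hom a)) m = _
  rw [resTop_appTop]
  rfl

omit [X.Over (Spec (CommRingCat.of A))] [Z.Over (Spec (CommRingCat.of A))]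
  [i.IsOver (Spec (CommRingCat.of A))] in
lemma pullback_map_smulModΓ (M : X.Modules) (r : Coh.Γtop X) :
    (Scheme.Modules.pullback i).map (Formal.smulModΓ M r) =
      Formal.smulModΓ ((Scheme.Modules.pullback i).obj M) (i.appTop.hom r) := by
  apply ((Scheme.Modules.pullbackPushforwardAdjunction i).homEquiv _ _).injective
  rw [Adjunction.homEquiv_unit, Adjunction.homEquiv_unit, pushforward_map_smulModΓ]
  have h1 := (Scheme.Modules.pullbackPushforwardAdjunction i).unit.naturality
    (Formal.smulModΓ M r)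
  exact h1.symm.trans (KLin.comp_smulModΓ _ _).symm

lemma pullback_map_smulMod (M : X.Modules) (a : A) :
    (Scheme.Modules.pullback i).map (Formal.smulMod A M a) =
      Formal.smulMod A ((Scheme.Modules.pullback i).obj M) a := by
  unfold Formal.smulMod
  rw [pullback_map_smulModΓ]
  congr 1
  have h : i ≫ (X ↘ Spec (CommRingCat.of A)) = Z ↘ Spec (CommRingCat.of A) :=
    comp_over i (Spec (CommRingCat.of A))
  rw [← h]
  rfl

variable (J : Ideal A) (M : X.Modules)

/-- `M / J M`. -/
noncomputable abbrev quo : X.Modules := cokernel (Formal.smulFamily J M)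

noncomputable abbrev quoπ : M ⟶ quo J M := cokernel.π (Formal.smulFamily J M)

omit [Z.Over (Spec (CommRingCat.of A))] in
lemma smulMod_quoπ (a : A) (ha : a ∈ J) : Formal.smulMod A M a ≫ quoπ J M = 0 := by
  have h1 : Formal.smulMod A M a =
      Sigma.ι (fun _ : J => M) ⟨a, ha⟩ ≫ Formal.smulFamily J M := by
    unfold Formal.smulFamily
    rw [Sigma.ι_desc]
  rw [h1, Category.assoc, cokernel.condition, comp_zero]

lemma smulFamily_map_quoπ :
    Formal.smulFamily J ((Scheme.Modules.pullback i).obj M) ≫
      (Scheme.Modules.pullback i).map (quoπ J M) = 0 := by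
  apply Sigma.hom_ext
  intro a
  unfold Formal.smulFamily
  rw [Sigma.ι_desc_assoc, comp_zero, ← pullback_map_smulMod, ← Functor.map_comp,
    smulMod_quoπ J M a a.2, Functor.map_zero]

/-- the comparison `(i^*M) / J (i^*M) ⟶ i^*(M / J M)`. -/
noncomputable def quoInv : quo J ((Scheme.Modules.pullback i).obj M) ⟶
    (Scheme.Modules.pullback i).obj (quo J M) :=
  cokernel.desc _ ((Scheme.Modules.pullback i).map (quoπ J M)) (smulFamily_map_quoπ i J M)

lemma quoπ_quoInv : quoπ J ((Scheme.Modules.pullback i).obj M) ≫ quoInv i J M =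
    (Scheme.Modules.pullback i).map (quoπ J M) := cokernel.π_desc _ _ _

noncomputable instance preservesColimits_pullback :
    PreservesColimitsOfSize.{u, u} (Scheme.Modules.pullback i) :=
  (Scheme.Modules.pullbackPushforwardAdjunction i).leftAdjoint_preservesColimits

lemma map_smulFamily_quoπ :
    (Scheme.Modules.pullback i).map (Formal.smulFamily J M) ≫
      quoπ J ((Scheme.Modules.pullback i).obj M) = 0 := by
  refine (isColimitOfPreserves (Scheme.Modules.pullback i)
    (colimit.isColimit (Discrete.functor fun _ : J => M))).hom_ext (fun ⟨a⟩ => ?_)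
  change (Scheme.Modules.pullback i).map (Sigma.ι (fun _ : J => M) a) ≫
    (Scheme.Modules.pullback i).map (Formal.smulFamily J M) ≫
      quoπ J ((Scheme.Modules.pullback i).obj M) =
    (Scheme.Modules.pullback i).map (Sigma.ι (fun _ : J => M) a) ≫ 0
  rw [comp_zero, ← Category.assoc, ← Functor.map_comp]
  have h1 : Sigma.ι (fun _ : J => M) a ≫ Formal.smulFamily J M = Formal.smulMod A M a := by
    unfold Formal.smulFamily
    rw [Sigma.ι_desc]
  rw [h1, pullback_map_smulMod]
  exact smulMod_quoπ J _ a a.2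

/-- the comparison `i^*(M / J M) ⟶ (i^*M) / J (i^*M)`. -/
noncomputable def quoHom : (Scheme.Modules.pullback i).obj (quo J M) ⟶
    quo J ((Scheme.Modules.pullback i).obj M) :=
  (PreservesCokernel.iso (Scheme.Modules.pullback i) (Formal.smulFamily J M)).hom ≫
    cokernel.desc _ (quoπ J ((Scheme.Modules.pullback i).obj M)) (map_smulFamily_quoπ i J M)

lemma map_quoπ_quoHom : (Scheme.Modules.pullback i).map (quoπ J M) ≫ quoHom i J M =
    quoπ J ((Scheme.Modules.pullback i).obj M) := by
  unfold quoHom
  rw [PreservesCokernel.π_iso_hom_assoc, cokernel.π_desc]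

/-- `i^*(M / J M) ≅ (i^*M) / J (i^*M)`. -/
noncomputable def quoIso : (Scheme.Modules.pullback i).obj (quo J M) ≅
    quo J ((Scheme.Modules.pullback i).obj M) where
  hom := quoHom i J M
  inv := quoInv i J M
  hom_inv_id := by
    haveI : Epi ((Scheme.Modules.pullback i).map (quoπ J M)) := inferInstance
    rw [← cancel_epi ((Scheme.Modules.pullback i).map (quoπ J M)), ← Category.assoc,
      map_quoπ_quoHom, quoπ_quoInv, Category.comp_id]
  inv_hom_id := by
    rw [← cancel_epi (quoπ J ((Scheme.Modules.pullback i).obj M)), ← Category.assoc,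
      quoπ_quoInv, map_quoπ_quoHom, Category.comp_id]

end Groth.Agent.LD.PS
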