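import Groth.Agent.Lib.Helper1.ProperOverClSub2
import Groth.Agent.Lib.Lead.QC.SuppPullback
import Groth.Agent.Lib.Lead.QC.SuppSES
import Groth.Agent.Lib.Lead.QC.Support

/-! # Modules with support proper over the base: formal properties. -/

set_option autoImplicit false
universe u
open CategoryTheory Limits AlgebraicGeometry

namespace Groth.Agent.LD.PS

open Groth.Agent.LD Groth.Agent.H1

variable {X S : Scheme.{u}}

/-- a closed subset of a closed subset proper over the base is proper over the base. -/
theorem isProperOver_of_subset (f : X ⟶ S) [LocallyOfFiniteType f] {Z W : Set X}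
    (hZ : ClSub.IsProperOver f Z) (hW : IsClosed W) (hWZ : W ⊆ Z) : ClSub.IsProperOver f W := by
  obtain ⟨T, i, hi, rfl, hp⟩ := IsProperOver.exists_closedImmersion hZ
  have hc : IsClosed (⇑i ⁻¹' W) := hW.preimage i.continuous
  let J := Scheme.IdealSheafData.vanishingIdeal ⟨⇑i ⁻¹' W, hc⟩
  refine (isProperOver_iff_exists f W).mpr ⟨_, J.subschemeι ≫ i, inferInstance, ?_, ?_⟩
  · rw [Scheme.Hom.comp_base, TopCat.coe_comp, Set.range_comp, J.range_subschemeι,
      Scheme.IdealSheafData.coe_support_vanishingIdeal]
    change ⇑i '' (⇑i ⁻¹' W) = W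
    rw [Set.image_preimage_eq_inter_range, Set.inter_eq_left]
    exact hWZ
  · rw [Category.assoc]
    infer_instance

theorem isProperOver_union (f : X ⟶ S) [LocallyOfFiniteType f] {Z W : Set X}
    (hZ : ClSub.IsProperOver f Z) (hW : ClSub.IsProperOver f W) : ClSub.IsProperOver f (Z ∪ W) := by
  have := isProperOver_iUnion f (fun b : Bool => cond b Z W) (fun b => by cases b <;> assumption)
  convert this using 1
  ext x
  simp only [Set.mem_union, Set.mem_iUnion, Bool.exists_bool, cond_true, cond_false]
  tauto

/-- **S0796** -/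
theorem isProperOver_support_ses (f : X ⟶ S) [LocallyOfFiniteType f]
    (E : ShortComplex X.Modules) (hE : E.ShortExact)
    (h₁ : E.X₁.IsFiniteType) (h₃ : E.X₃.IsFiniteType) :
    ClSub.IsProperOver f (CohB1.support E.X₂) ↔
      ClSub.IsProperOver f (CohB1.support E.X₁) ∧ ClSub.IsProperOver f (CohB1.support E.X₃) := by
  rw [QC.support_of_shortExact hE]
  constructor
  · intro h
    exact ⟨isProperOver_of_subset f h (QC.isClosed_support_of_isFiniteType _ h₁)
        Set.subset_union_left,
      isProperOver_of_subset f h (QC.isClosed_support_of_isFiniteType _ h₃)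
        Set.subset_union_right⟩
  · rintro ⟨h1, h3⟩
    exact isProperOver_union f h1 h3

/-- **S0794** -/
theorem isProperOver_support_pullback {X' S' : Scheme.{u}} (f : X ⟶ S) [LocallyOfFiniteType f]
    (g : S' ⟶ S) (g' : X' ⟶ X) (f' : X' ⟶ S') (sq : IsPullback g' f' f g)
    (F : X.Modules) [F.IsQuasicoherent] (hft : F.IsFiniteType)
    (hF : ClSub.IsProperOver f (CohB1.support F)) :
    ClSub.IsProperOver f' (CohB1.support ((Scheme.Modules.pullback g').obj F)) := by
  have h := isProperOver_preimage_of_isPullback f g g' f' sq _ hF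
  convert h using 1
  ext x
  exact QC.support_pullback g' F hft x

end Groth.Agent.LD.PS
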