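import Groth.Agent.Lib.Lead.PS.FormalLim
import Groth.Agent.Lib.Lead.PS.Support
import Groth.Agent.Lib.Lead.RS.StalkFF

/-! # The theorem on formal functions for coherent modules with proper support
(EGA III 4.1.10 forms). -/

set_option autoImplicit false
universe u
open CategoryTheory Limits AlgebraicGeometry

namespace Groth.Agent.LD.PS

open Groth.Agent.LD

/-- formal functions over a complete base, as a hypothesis (S0003). -/
def FormalBijHyp : Prop :=
  ∀ (A : Type u) [CommRing A] [IsNoetherianRing A] (I : Ideal A) [IsAdicComplete I A]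
    (X : Scheme.{u}) [X.Over (Spec (CommRingCat.of A))] [IsProper (X ↘ Spec (CommRingCat.of A))]
    (M : X.Modules) (_ : Coh.IsCoh M) (p : ℕ), Function.Bijective (Formal.toHHlim I M p)

variable (A : Type u) [CommRing A] [IsNoetherianRing A] (I : Ideal A)
  (X : Scheme.{u}) [X.Over (Spec (CommRingCat.of A))]
  [LocallyOfFiniteType (X ↘ Spec (CommRingCat.of A))]
  (F : X.Modules) (hF : Coh.IsCoh F)
  (hs : ClSub.IsProperOver (X ↘ Spec (CommRingCat.of A)) (CohB1.support F)) (p : ℕ)

omit [IsNoetherianRing A] [LocallyOfFiniteType (X ↘ Spec (CommRingCat.of A))] in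
include hF in
lemma qc_modPow (n : ℕ) : (Formal.modPow I n F).IsQuasicoherent :=
  QC.qc_cokernel _ (QC.qc_colimit (Discrete.functor fun _ : ↥(I ^ n) => F) (fun _ => hF.1)) hF.1

include hF hs in
/-- **S4478** -/
theorem nonempty_adicCompletion_addEquiv_HHlim (hFF : RS.FormalHyp.{u}) :
    Nonempty (AdicCompletion I (Coh.HH X F p) ≃+ Formal.HHlim I F p) := by
  haveI : F.IsQuasicoherent := hF.1
  obtain ⟨Z, i, hi, hp, hunit⟩ :=
    exists_closedImmersion_unit_iso (X ↘ Spec (CommRingCat.of A)) F hF.2 hs
  letI : Z.Over (Spec (CommRingCat.of A)) := ⟨i ≫ (X ↘ Spec (CommRingCat.of A))⟩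
  haveI : i.IsOver (Spec (CommRingCat.of A)) := ⟨rfl⟩
  haveI : IsProper (Z ↘ Spec (CommRingCat.of A)) := hp
  have hu : ∀ n, IsIso ((Scheme.Modules.pullbackPushforwardAdjunction i).unit.app
      (Formal.modPow I (n + 1) F)) := by
    intro n
    haveI : Epi (Formal.modPowπ I (n + 1) F) := by
      change Epi (cokernel.π (Formal.smulFamily (I ^ (n + 1)) F))
      infer_instance
    haveI := qc_modPow A I X F hF (n + 1)
    exact isIso_unit_of_epi i (Formal.modPowπ I (n + 1) F) hunit
  have hG : Coh.IsCoh ((Scheme.Modules.pullback i).obj F) :=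
    ⟨QC.qc_pullback i F, QC.isFiniteType_pullback i F hF.2⟩
  obtain ⟨e'⟩ := hFF A I Z ((Scheme.Modules.pullback i).obj F) hG p
  exact ⟨((AdicCompletion.congr I (cohE A i p F)).toAddEquiv.trans e').trans
    (limE i I F p hu).symm⟩

include hF hs in
/-- **S4460** -/
theorem bijective_toHHlim [IsAdicComplete I A] (hB : FormalBijHyp.{u}) :
    Function.Bijective (Formal.toHHlim I F p) := by
  haveI : F.IsQuasicoherent := hF.1
  obtain ⟨Z, i, hi, hp, hunit⟩ :=
    exists_closedImmersion_unit_iso (X ↘ Spec (CommRingCat.of A)) F hF.2 hs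
  letI : Z.Over (Spec (CommRingCat.of A)) := ⟨i ≫ (X ↘ Spec (CommRingCat.of A))⟩
  haveI : i.IsOver (Spec (CommRingCat.of A)) := ⟨rfl⟩
  haveI : IsProper (Z ↘ Spec (CommRingCat.of A)) := hp
  have hu : ∀ n, IsIso ((Scheme.Modules.pullbackPushforwardAdjunction i).unit.app
      (Formal.modPow I (n + 1) F)) := by
    intro n
    haveI : Epi (Formal.modPowπ I (n + 1) F) := by
      change Epi (cokernel.π (Formal.smulFamily (I ^ (n + 1)) F))
      infer_instance
    haveI := qc_modPow A I X F hF (n + 1)
    exact isIso_unit_of_epi i (Formal.modPowπ I (n + 1) F) hunit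
  have hG : Coh.IsCoh ((Scheme.Modules.pullback i).obj F) :=
    ⟨QC.qc_pullback i F, QC.isFiniteType_pullback i F hF.2⟩
  have hb := hB A I Z ((Scheme.Modules.pullback i).obj F) hG p
  have key : ∀ x, Formal.toHHlim I F p x =
      (limE i I F p hu).symm
        (Formal.toHHlim I ((Scheme.Modules.pullback i).obj F) p (cohE A i p F x)) := by
    intro x
    rw [← limE_toHHlim i I F p hu x, AddEquiv.symm_apply_apply]
  have h2 : Function.Bijective (fun x => (limE i I F p hu).symm
      (Formal.toHHlim I ((Scheme.Modules.pullback i).obj F) p (cohE A i p F x))) :=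
    (limE i I F p hu).symm.bijective.comp (hb.comp (cohE A i p F).bijective)
  convert h2 using 1
  funext x
  exact key x

end Groth.Agent.LD.PS
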