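import Groth.Agent.Lib.Lead.PS.FormalClosed

/-! # Transport of the inverse limit `lim_n H^p(X, F / I^{n+1} F)` along a closed immersion. -/

set_option autoImplicit false
universe u
open CategoryTheory Limits AlgebraicGeometry

namespace Groth.Agent.LD.PS

open Groth.Agent.LD

variable {A : Type u} [CommRing A] {X Z : Scheme.{u}} [X.Over (Spec (CommRingCat.of A))]
  [Z.Over (Spec (CommRingCat.of A))] (i : Z ⟶ X) [i.IsOver (Spec (CommRingCat.of A))]

section Lim

variable [IsClosedImmersion i] (I : Ideal A) (F : X.Modules) (p : ℕ)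
  (hu : ∀ n, IsIso ((Scheme.Modules.pullbackPushforwardAdjunction i).unit.app
    (Formal.modPow I (n + 1) F)))
  [IsIso ((Scheme.Modules.pullbackPushforwardAdjunction i).unit.app F)]

/-- the levelwise identifications `H^p(X, F/I^{n+1}F) ≃ H^p(Z, i^*F / I^{n+1} i^*F)`. -/
noncomputable def lvl (n : ℕ) :
    Formal.HHmodPow I F p n ≃ₗ[A] Formal.HHmodPow I ((Scheme.Modules.pullback i).obj F) p n :=
  haveI := hu n
  (cohE A i p (Formal.modPow I (n + 1) F)) ≪≫ₗ RS.HHequiv A (mpIso i I F (n + 1)) p

omit [IsIso ((Scheme.Modules.pullbackPushforwardAdjunction i).unit.app F)] in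
lemma lvl_apply (n : ℕ) (y : Formal.HHmodPow I F p n) :
    lvl i I F p hu n y = CL.HHmap A (mpIso i I F (n + 1)).hom p
      (@cohE A _ _ _ _ _ i _ _ p (Formal.modPow I (n + 1) F) (hu n) y) := rfl

omit [IsIso ((Scheme.Modules.pullbackPushforwardAdjunction i).unit.app F)] in
lemma lvl_trans (n : ℕ) (y : Formal.HHmodPow I F p (n + 1)) :
    lvl i I F p hu n (Formal.HHmodPowTrans I F p n y) =
      Formal.HHmodPowTrans I ((Scheme.Modules.pullback i).obj F) p n (lvl i I F p hu (n + 1) y) := by
  haveI := hu n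
  haveI := hu (n + 1)
  change lvl i I F p hu n (CL.HHmap A (Formal.modPowTrans I (n + 1) F) p y) =
    CL.HHmap A (Formal.modPowTrans I (n + 1) ((Scheme.Modules.pullback i).obj F)) p
      (lvl i I F p hu (n + 1) y)
  rw [lvl_apply, lvl_apply, cohE_map]
  have h := map_modPowTrans_mpIso i I F (n + 1)
  have h3 := congrArg (fun ψ => CL.HHmap A ψ p
    (cohE A i p (Formal.modPow I (n + 1 + 1) F) y)) h
  simp only [CL.HHmap_comp, LinearMap.comp_apply] at h3
  exact h3

lemma lvl_to (n : ℕ) (x : Coh.HH X F p) :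
    lvl i I F p hu n (Formal.toHHmodPow I F p n x) =
      Formal.toHHmodPow I ((Scheme.Modules.pullback i).obj F) p n (cohE A i p F x) := by
  haveI := hu n
  change lvl i I F p hu n (CL.HHmap A (Formal.modPowπ I (n + 1) F) p x) =
    CL.HHmap A (Formal.modPowπ I (n + 1) ((Scheme.Modules.pullback i).obj F)) p
      (cohE A i p F x)
  rw [lvl_apply, cohE_map]
  have h := map_modPowπ_mpIso i I F (n + 1)
  have h3 := congrArg (fun ψ => CL.HHmap A ψ p (cohE A i p F x)) h
  simp only [CL.HHmap_comp, LinearMap.comp_apply] at h3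
  exact h3

/-- the identification of the inverse limits. -/
noncomputable def limE : Formal.HHlim I F p ≃+
    Formal.HHlim I ((Scheme.Modules.pullback i).obj F) p where
  toFun x := ⟨fun n => lvl i I F p hu n (x.1 n), fun n => by
    change Formal.HHmodPowTrans I _ p n (lvl i I F p hu (n + 1) (x.1 (n + 1))) =
      lvl i I F p hu n (x.1 n)
    rw [← lvl_trans, x.2 n]⟩
  invFun y := ⟨fun n => (lvl i I F p hu n).symm (y.1 n), fun n => by
    change Formal.HHmodPowTrans I F p n ((lvl i I F p hu (n + 1)).symm (y.1 (n + 1))) =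
      (lvl i I F p hu n).symm (y.1 n)
    apply (lvl i I F p hu n).injective
    rw [lvl_trans, LinearEquiv.apply_symm_apply, LinearEquiv.apply_symm_apply, y.2 n]⟩
  left_inv x := by
    apply Subtype.ext
    funext n
    exact (lvl i I F p hu n).symm_apply_apply (x.1 n)
  right_inv y := by
    apply Subtype.ext
    funext n
    exact (lvl i I F p hu n).apply_symm_apply (y.1 n)
  map_add' x y := by
    apply Subtype.ext
    funext n
    exact map_add (lvl i I F p hu n) (x.1 n) (y.1 n)

lemma limE_toHHlim (x : Coh.HH X F p) :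
    limE i I F p hu (Formal.toHHlim I F p x) =
      Formal.toHHlim I ((Scheme.Modules.pullback i).obj F) p (cohE A i p F x) := by
  apply Subtype.ext
  funext n
  exact lvl_to i I F p hu n x

end Lim

end Groth.Agent.LD.PS
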